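import Groth.Agent.H4Weil.Cover
import Groth.Prelude.Def_WeilRes

/-! Weil restriction along finite locally free universal homeomorphisms. -/

set_option autoImplicit false
set_option linter.style.haveILetI false
set_option maxHeartbeats 1000000
set_option backward.isDefEq.respectTransparency.types false

universe u

open CategoryTheory CategoryTheory.Limits AlgebraicGeometry Opposite

namespace Groth.Agent.Deform.WeilUH

/-- `Mor_S(Z, X)` is representable when `Z → S` has one-point fibres universally. -/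
theorem isRepresentable_morS {X Z S : Scheme.{u}} {g : Z ⟶ S} {f : X ⟶ S} (hg : Mor2.IsFinLocFree g)
    (hU : UniversallyInjective g) : (Flatn.morS g f).IsRepresentable := by
  haveI := hg.1
  obtain ⟨H, u, hu⟩ := H4Weil.exists_universal_pt (g := g) (f := f) fun {T} e t => by
    haveI : UniversallyInjective (pullback.fst e.h g) := MorphismProperty.pullback_fst _ _ hU
    let π := pullback.fst e.h g
    obtain ⟨V, hV, htV, hfree⟩ := H4Weil.exists_affine_free hg (e.h t)
    have hfib : ∀ q : ↥(pullback e.h g), π q = t → f (e.β q) = e.h t := fun q hq => by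
      rw [← Scheme.Hom.comp_apply, e.w, ← pullback.condition, Scheme.Hom.comp_apply]
      exact congrArg _ hq
    obtain ⟨U, hU', hqU, hUV⟩ : ∃ U : X.Opens, IsAffineOpen U ∧
        (∀ q : ↥(pullback e.h g), π q = t → e.β q ∈ U) ∧ U ≤ f ⁻¹ᵁ V := by
      by_cases h : ∃ q, π q = t
      · obtain ⟨q, hq⟩ := h
        obtain ⟨U, hU', hqU, hUV⟩ := exists_isAffineOpen_mem_and_subset (x := e.β q) (U := f ⁻¹ᵁ V)
          (show f (e.β q) ∈ V by rw [hfib q hq]; exact htV)
        refine ⟨U, hU', fun q' hq' => ?_, hUV⟩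
        rw [(pullback.fst e.h g).injective (hq'.trans hq.symm)]
        exact hqU
      · exact ⟨⊥, isAffineOpen_bot _, fun q hq => absurd ⟨q, hq⟩ h, bot_le⟩
    exact ⟨⟨V, U, hUV, H4Weil.exists_chart hg hV hfree hU' hUV⟩, (H4Weil.Chart.mem_loc _ e t).2 ⟨htV, hqU⟩⟩
  exact ⟨_, H4Weil.representableBy_of_universal u hu⟩

variable {S S' : Scheme.{u}} (c : S' ⟶ S)

theorem morS_left {X : Scheme.{u}} (f : X ⟶ S) {M : Over S} (r : (Flatn.morS c f).RepresentableBy M) {T T' : Over S}
    (v : T' ⟶ T) (w : T ⟶ M) :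
    (r.homEquiv (v ≫ w)).left = ((Over.pullback c).map v).left ≫ (r.homEquiv w).left := by
  rw [r.homEquiv_comp]
  rfl

/-- Weil restrictions along finite locally free universal homeomorphisms exist. -/
theorem exists_isWeilRes (hg : Mor2.IsFinLocFree c) (hU : UniversallyInjective c) (X' : Over S') :
    ∃ (R : Over S) (q : Red.bc c R ⟶ X'), WeilRes.IsWeilRes c X' R q := by
  obtain ⟨M, ⟨rM⟩⟩ := isRepresentable_morS (f := X'.hom ≫ c) hg hU
  obtain ⟨E, ⟨rE⟩⟩ := isRepresentable_morS (f := c) hg hU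
  let π : Over.mk (X'.hom ≫ c) ⟶ Over.mk c := Over.homMk X'.hom
  let univ : (Over.map c).obj ((Over.pullback c).obj M) ⟶ Over.mk (X'.hom ≫ c) := rM.homEquiv (𝟙 M)
  let a : M ⟶ E := rE.homEquiv.symm (univ ≫ π)
  let one : Over S := Over.mk (𝟙 S)
  let b : one ⟶ E := rE.homEquiv.symm (Over.homMk (pullback.snd (𝟙 S) c) rfl)
  let toOne : ∀ T : Over S, T ⟶ one := fun T => Over.homMk T.hom (Category.comp_id _)
  have hsnd : ∀ T : Over S, (rE.homEquiv (toOne T ≫ b)).left = pullback.snd T.hom c := fun T => by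
    rw [morS_left, Equiv.apply_symm_apply]
    exact pullback.lift_snd _ _ _
  have ha : ∀ {T : Over S} (v : T ⟶ M), (rE.homEquiv (v ≫ a)).left = (rM.homEquiv v).left ≫ X'.hom := fun {T} v => by
    have h := morS_left c _ rM v (𝟙 M)
    rw [Category.comp_id] at h
    rw [morS_left, Equiv.apply_symm_apply, h, Category.assoc]
    rfl
  have hcond : ∀ {T : Over S} (v : T ⟶ M),
      (∃ g : T ⟶ pullback a b, g ≫ pullback.fst a b = v) ↔ (rM.homEquiv v).left ≫ X'.hom = pullback.snd T.hom c := by
    intro T v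
    constructor
    · rintro ⟨g, rfl⟩
      rw [← ha, ← hsnd T, Category.assoc, pullback.condition, ← Category.assoc]
      congr 4
      exact Over.OverMorphism.ext ((Category.comp_id _).symm.trans (Over.w (g ≫ pullback.snd a b)))
    · intro h
      have e : v ≫ a = toOne T ≫ b := rE.homEquiv.injective (Over.OverMorphism.ext (by
        rw [ha, h, hsnd]))
      exact ⟨pullback.lift v (toOne T) e, pullback.lift_fst _ _ _⟩
  let R := pullback a b
  let p : R ⟶ M := pullback.fst a b
  refine ⟨R, Over.homMk (rM.homEquiv p).left ((hcond p).1 ⟨𝟙 _, Category.id_comp _⟩), fun T => ⟨fun g₁ g₂ h => ?_,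
    fun ψ => ?_⟩⟩
  · haveI : Mono b := ⟨fun u₁ u₂ _ =>
      Over.OverMorphism.ext ((Category.comp_id _).symm.trans ((Over.w u₁).trans ((Over.w u₂).symm.trans (Category.comp_id _))))⟩
    rw [← cancel_mono p]
    apply rM.homEquiv.injective
    apply Over.OverMorphism.ext
    rw [morS_left, morS_left]
    exact congrArg Over.Hom.left h
  · let v : T ⟶ M := rM.homEquiv.symm (Over.homMk ψ.left (by
      show ψ.left ≫ X'.hom ≫ c = pullback.snd T.hom c ≫ c
      rw [← Category.assoc, Over.w ψ]
      rfl))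
    obtain ⟨g, hg'⟩ := (hcond v).2 (by rw [Equiv.apply_symm_apply]; exact Over.w ψ)
    refine ⟨g, Over.OverMorphism.ext ?_⟩
    show ((Over.pullback c).map g).left ≫ (rM.homEquiv p).left = ψ.left
    rw [← morS_left, hg', Equiv.apply_symm_apply]
    rfl

end Groth.Agent.Deform.WeilUH
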